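import Groth.Agent.Lib.AffPart25.Smallest
import Groth.Agent.Lib.AffPart25.Extension
import Groth.Agent.Lib.TorPts21.RadicalImage
import Groth.Agent.Lib.IsogTransfer19.Main
import Groth.Agent.S18096

/-!
# Anti-affinity of a commutative group through its toric and unipotent quotients
-/

set_option autoImplicit false
set_option linter.style.haveILetI false
set_option backward.isDefEq.respectTransparency false
set_option backward.isDefEq.respectTransparency.types false
set_option maxSynthPendingDepth 3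
set_option synthInstance.maxHeartbeats 400000
universe u

open CategoryTheory CategoryTheory.Limits MonoidalCategory CartesianMonoidalCategory MonObj AlgebraicGeometry

noncomputable section

namespace Groth.Agent.AntiParts15

variable {k : Type u} [Field k]

/-- A quotient of an anti-affine group is anti-affine. -/
theorem antiAffine_of_surjective {G Q : Over (Spec (CommRingCat.of k))} (q : G ⟶ Q) [Flat q.left] [Surjective q.left]
    [QuasiCompact q.left] [GrpObj Q]
    (h : Function.Bijective ((Scheme.ΓSpecIso (CommRingCat.of k)).inv ≫ G.hom.appTop).hom) :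
    Function.Bijective ((Scheme.ΓSpecIso (CommRingCat.of k)).inv ≫ Q.hom.appTop).hom := by
  haveI : Epi q.left := inferInstance
  have hinj : Function.Injective q.left.appTop := GITQuot.appTop_injective_of_epi q.left
  have e : ∀ x, q.left.appTop (((Scheme.ΓSpecIso (CommRingCat.of k)).inv ≫ Q.hom.appTop) x) =
      ((Scheme.ΓSpecIso (CommRingCat.of k)).inv ≫ G.hom.appTop) x := fun x => by
    rw [← CommRingCat.comp_apply, Category.assoc, ← Scheme.Hom.comp_appTop, Over.w q]
  refine ⟨fun a b hab => h.1 ?_, fun s => ?_⟩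
  · rw [← e, ← e]
    exact congrArg _ hab
  · obtain ⟨c, hc⟩ := h.2 (q.left.appTop s)
    exact ⟨c, hinj ((e c).trans hc)⟩

variable [IsAlgClosed k]

/-- An affine quotient of `G` is the image of a subgroup `V` as soon as `G/V` is anti-affine. -/
theorem surjective_of_antiAffine_quotient {G V W Q : Over (Spec (CommRingCat.of k))} [GrpObj G] [GrpObj V] [GrpObj W]
    [GrpObj Q] [IsAffine Q.left] [Smooth Q.hom] [QuasiCompact Q.hom] [IsCommMonObj Q]
    [LocallyOfFiniteType W.hom] [QuasiCompact W.hom]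
    [IsAffine V.left] [Smooth V.hom] [ConnectedSpace V.left] (v : V ⟶ G) [IsMonHom v]
    (w : G ⟶ W) [IsMonHom w] [Surjective w.left] [Flat w.left] [QuasiCompact w.left] (hw : AlgGrp.IsKernel v w)
    (hW : Function.Bijective ((Scheme.ΓSpecIso (CommRingCat.of k)).inv ≫ W.hom.appTop).hom)
    (g : G ⟶ Q) [IsMonHom g] [Surjective g.left] [Flat g.left] [QuasiCompact g.left] :
    Surjective (v ≫ g).left := by
  obtain ⟨I, _, j, p, hj, hjc, hp, hpf, hps, hpj, hIs, hIc, hIa⟩ := AffPart25.exists_affine_image (v ≫ g)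
  haveI := hj; haveI := hjc; haveI := hps
  obtain ⟨Q', _, π, hπm, hπf, hπs, hπq, hker, hQ's, hQ'q⟩ := AffPart25.exists_quotient j fun T x n => ⟨n, by
    rw [mul_comm x, mul_inv_cancel_right]⟩
  haveI := hπm; haveI := hπf; haveI := hπs; haveI := hπq; haveI := hQ's; haveI := hQ'q
  haveI : IsAffine Q'.left := AffQuot19.isAffine_target Q Q' π
  have hkill : v ≫ g ≫ π = 1 := by
    rw [← Category.assoc, ← hpj, Category.assoc, hker.w, ← Category.assoc, comp_toUnit, ← Hom.one_def]
  obtain ⟨d, hd, hdm⟩ := AffPart25.exists_desc_hom v w hw (g ≫ π) hkill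
  haveI := hdm
  haveI : IsSeparated W.hom := AbRigid.isSeparated_of_grpObj W
  have hd1 : d = 1 := by
    obtain ⟨c, hc⟩ := AffGrp19.exists_const hW d
    have h1 : η[W] ≫ d = c := by rw [hc, ← Category.assoc, toUnit_unique (η[W] ≫ toUnit W) (𝟙 _), Category.id_comp]
    rw [IsMonHom.one_hom] at h1
    rw [hc, ← h1, ← Hom.one_def]
  haveI : Epi g := AlgGrpBasic19.epi_of_cover g
  have hπ : (𝟙 Q : Q ⟶ Q) ≫ π = toUnit Q ≫ η[Q'] := by
    rw [← cancel_epi g, Category.id_comp, ← hd, hd1, MonObj.comp_one, ← Hom.one_def, MonObj.comp_one]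
  obtain ⟨l, hl, -⟩ := hker.exists_lift (𝟙 Q) (toUnit Q) hπ
  haveI : Surjective j.left := ⟨fun x => ⟨l.left x, by
    rw [← Scheme.Hom.comp_apply, ← Over.comp_left, hl]; rfl⟩⟩
  rw [← hpj, Over.comp_left]
  infer_instance

/-- A commutative group is anti-affine if its quotients by a torus and by a unipotent subgroup are. -/
theorem antiAffine_of_parts {G T U Gs Gu : Over (Spec (CommRingCat.of k))} [GrpObj G] [Smooth G.hom]
    [QuasiCompact G.hom] [ConnectedSpace G.left] [IsCommMonObj G] [GrpObj T] [GrpObj U] [GrpObj Gs] [GrpObj Gu]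
    [LocallyOfFiniteType Gs.hom] [QuasiCompact Gs.hom] [LocallyOfFiniteType Gu.hom] [QuasiCompact Gu.hom]
    (t : T ⟶ G) [IsMonHom t] (hT : Red.IsTorus T) (u : U ⟶ G) [IsMonHom u]
    [IsAffine U.left] [Smooth U.hom] [ConnectedSpace U.left] (hU : Red.HasNoSubtorus k U)
    (qs : G ⟶ Gs) [IsMonHom qs] [Surjective qs.left] [Flat qs.left] (hs : AlgGrp.IsKernel u qs)
    (qu : G ⟶ Gu) [IsMonHom qu] [Surjective qu.left] [Flat qu.left] (hu : AlgGrp.IsKernel t qu)
    (hGs : Function.Bijective ((Scheme.ΓSpecIso (CommRingCat.of k)).inv ≫ Gs.hom.appTop).hom)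
    (hGu : Function.Bijective ((Scheme.ΓSpecIso (CommRingCat.of k)).inv ≫ Gu.hom.appTop).hom) :
    Function.Bijective ((Scheme.ΓSpecIso (CommRingCat.of k)).inv ≫ G.hom.appTop).hom := by
  obtain ⟨hTa, hTs, hTc, -⟩ := TorPts21.props_of_isTorus hT
  haveI := hTa; haveI := hTs; haveI := hTc
  refine (S18096.result k G).2 fun n ρ hρ => ?_
  haveI := hρ
  haveI : IsAffine (FrB.GLZ.{u} n).left := inferInstanceAs (IsAffine (Spec _))
  haveI : IsAffine (FrB.GLn n (Spec (CommRingCat.of k))).left :=
    inferInstanceAs (IsAffine (Limits.pullback _ _))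
  haveI : LocallyOfFiniteType (FrB.GLZ.{u} n).hom := by
    haveI : Algebra.FiniteType (ULift.{u} ℤ) (CoordGrp.GLb n (ULift.{u} ℤ)) :=
      inferInstanceAs (Algebra.FiniteType (ULift.{u} ℤ) (MvPolynomial (CoordGrp.GLPoly.Idx n) (ULift.{u} ℤ)))
    haveI : Algebra.FiniteType (ULift.{u} ℤ) (CoordGrp.GLn n (ULift.{u} ℤ)) :=
      Algebra.FiniteType.of_surjective (CoordGrp.GLn.mk n (ULift.{u} ℤ)) Ideal.Quotient.mk_surjective
    show LocallyOfFiniteType (Spec.map (CommRingCat.ofHom (algebraMap (ULift.{u} ℤ) (CoordGrp.GLn n (ULift.{u} ℤ)))))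
    rw [HasRingHomProperty.Spec_iff (P := @LocallyOfFiniteType)]
    exact RingHom.finiteType_algebraMap.2 inferInstance
  haveI : LocallyOfFiniteType (FrB.GLn n (Spec (CommRingCat.of k))).hom :=
    inferInstanceAs (LocallyOfFiniteType (pullback.snd _ _))
  haveI : QuasiCompact ρ.left := AlgGrpBasic19.quasiCompact_left ρ
  haveI : IsReduced G.left := OrbitTop19.isReduced_of_smooth G.hom
  obtain ⟨Q, _, j, g, hj, hg, hgj, hjc, hker, hgq, hgs⟩ := GrpGen20.exists_image ρ
  haveI := hj; haveI := hg; haveI := hjc; haveI := hgq; haveI := hgs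
  haveI : IsAffine Q.left := isAffine_of_isAffineHom j.left
  haveI : LocallyOfFiniteType Q.hom := by rw [← Over.w j]; infer_instance
  haveI : QuasiCompact Q.hom := by rw [← Over.w j]; infer_instance
  haveI : IsReduced Q.left := by
    haveI := CurveNF.isReduced_image g.left
    have hk : g.left.imageι.ker = ⊥ := by
      rw [Scheme.Hom.imageι, Scheme.IdealSheafData.ker_subschemeι]
      exact hker
    haveI : IsIso g.left.imageι := IsClosedImmersion.isIso_iff_ker_eq_bot.mpr hk
    exact isReduced_of_isOpenImmersion (inv g.left.imageι)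
  haveI : Smooth Q.hom := GrpSmooth19.smooth_of_isReduced Q
  haveI : Flat g.left := AbRigid.flat_of_surjective_of_isReduced G Q g
  haveI : ConnectedSpace Q.left := g.left.surjective.connectedSpace g.left.continuous
  haveI : IsCommMonObj Q := IsogTransfer19.isCommMonObj_of_cover g
  haveI : QuasiCompact qs.left := AlgGrpBasic19.quasiCompact_left qs
  haveI : QuasiCompact qu.left := AlgGrpBasic19.quasiCompact_left qu
  haveI : Surjective (t ≫ g).left := surjective_of_antiAffine_quotient t qu hu hGu g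
  haveI : Surjective (u ≫ g).left := surjective_of_antiAffine_quotient u qs hs hGs g
  have hQ : Red.HasNoSubtorus k Q := TorPts21.hasNoSubtorus_image (u ≫ g) hU
  have h1 : t ≫ g = 1 := TorPts21.hom_eq_one_of_pts _ fun x => TorPts21.pt_torus_hom_eq_one hT hQ _ x
  haveI : Flat (t ≫ g).left := AbRigid.flat_of_surjective_of_isReduced T Q (t ≫ g)
  haveI : QuasiCompact (t ≫ g).left := AlgGrpBasic19.quasiCompact_left _
  haveI : Epi (t ≫ g) := AlgGrpBasic19.epi_of_cover _
  have h2 : (𝟙 Q : Q ⟶ Q) = 1 := by rw [← cancel_epi (t ≫ g), Category.comp_id, MonObj.comp_one, h1]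
  rw [← hgj, ← Category.comp_id g, h2, MonObj.comp_one, MonObj.one_comp]

end Groth.Agent.AntiParts15
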